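import Groth.Agent.IndCofLib.Torsion

/-!
# Ind-objects of cofinite type are closed under kernels and cokernels
-/

set_option autoImplicit false

universe v

open CategoryTheory CategoryTheory.Limits

namespace Groth.Agent.IndCofLib

variable {C : Type v} [SmallCategory C] [Abelian C]

/-- Elements killed by the cokernel come from the source after a cover. -/
theorem exists_preimage {A B : Ind C} (f : A ⟶ B) {X : C} (x : y.obj X ⟶ B) (h : x ≫ cokernel.π f = 0) :
    ∃ (X' : C) (π : X' ⟶ X) (_ : Epi π) (a : y.obj X' ⟶ A), a ≫ f = y.map π ≫ x := by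
  obtain ⟨X', π, hπ, a, ha⟩ := exists_lift (Abelian.factorThruImage f) (kernel.lift (cokernel.π f) x h)
  refine ⟨X', π, hπ, a, ?_⟩
  have := congrArg (· ≫ Abelian.image.ι f) ha
  simpa using this

/-- An inclusion of subobjects can be tested on elements. -/
theorem le_of_elements {A : Ind C} (S T : Subobject A)
    (H : ∀ (X : C) (x : y.obj X ⟶ (S : Ind C)), ∃ (X' : C) (π : X' ⟶ X) (_ : Epi π) (z : y.obj X' ⟶ (T : Ind C)),
      z ≫ T.arrow = y.map π ≫ x ≫ S.arrow) : S ≤ T := by
  have h : S.arrow ≫ cokernel.π T.arrow = 0 := eq_zero_of_elements _ fun X x => by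
    obtain ⟨X', π, _, z, hz⟩ := H X x
    rw [← cancel_epi (y.map π), comp_zero, ← reassoc_of% hz, cokernel.condition, comp_zero]
  exact Subobject.le_of_comm (Abelian.monoLift T.arrow S.arrow h) (Abelian.monoLift_comp _ _ _)

/-- The torsion only depends on the isomorphism class. -/
noncomputable def torsIso {A B : Ind C} (e : A ≅ B) (n : ℕ) : Tors A n ≅ Tors B n :=
  kernel.mapIso _ _ e e (by rw [Preadditive.nsmul_comp, Preadditive.comp_nsmul, Category.id_comp, Category.comp_id])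

/-- The torsion of a kernel is small. -/
theorem small_tors_kernel {A B : Ind C} (f : A ⟶ B) {n : ℕ} (hA : Small (Tors A n)) (hB : Small (Tors B n)) :
    Small (Tors (kernel f) n) := by
  let g : Tors A n ⟶ Tors B n := tlift n (tι A n ≫ f) (nsmul_eq_zero_of_factor' f)
  refine small_of_iso
    { hom := tlift n (kernel.lift f (kernel.ι g ≫ tι A n) ?_) ?_
      inv := kernel.lift g (tlift n (tι (kernel f) n ≫ kernel.ι f) ?_) ?_
      hom_inv_id := ?_
      inv_hom_id := ?_ } (small_kernel hA hB g)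
  · rw [Category.assoc, ← tlift_tι n (tι A n ≫ f) (nsmul_eq_zero_of_factor' f), kernel.condition_assoc, zero_comp]
  · rw [← cancel_mono (kernel.ι f), Preadditive.nsmul_comp, kernel.lift_ι, nsmul_eq_zero_of_factor, zero_comp]
  · rw [← Preadditive.nsmul_comp, nsmul_tι, zero_comp]
  · rw [← cancel_mono (tι B n), Category.assoc, tlift_tι, tlift_tι_assoc, Category.assoc, kernel.condition, comp_zero,
      zero_comp]
  · rw [← cancel_mono (kernel.ι g), ← cancel_mono (tι A n), Category.id_comp]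
    simp only [Category.assoc, kernel.lift_ι, kernel.lift_ι_assoc, tlift_tι, tlift_tι_assoc]
  · rw [← cancel_mono (tι (kernel f) n), ← cancel_mono (kernel.ι f), Category.id_comp]
    simp only [Category.assoc, kernel.lift_ι, kernel.lift_ι_assoc, tlift_tι, tlift_tι_assoc]
where
  nsmul_eq_zero_of_factor' {A B : Ind C} {n : ℕ} (f : A ⟶ B) : n • (tι A n ≫ f) = 0 := by
    rw [← Preadditive.nsmul_comp, nsmul_tι, zero_comp]

section

variable (hart : ∀ X : C, IsArtinianObject X) (htor : ∀ X : C, ∃ l : ℕ, 0 < l ∧ l • 𝟙 X = 0)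
  {A : Ind C} {n : ℕ} (hA : ∀ k, Small (Tors A (n ^ k)))

include hart htor hA

/-- The quotient by multiples is small. -/
theorem small_cokernel_nsmul : Small (cokernel (n • 𝟙 A)) := by
  obtain ⟨N, hN⟩ := exists_decomp hart htor hA
  let g : Tors A (n ^ N) ⟶ cokernel (n • 𝟙 A) := tι A _ ≫ cokernel.π _
  have hnπ : ∀ {W : Ind C} (z : W ⟶ A), n • (z ≫ cokernel.π (n • 𝟙 A)) = 0 := fun z => by
    rw [← Preadditive.nsmul_comp, ← Category.comp_id z, ← Preadditive.comp_nsmul, Category.assoc, cokernel.condition,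
      comp_zero]
  have : Epi g := epi_of_elements g fun X q => by
    obtain ⟨X₁, π₁, _, a, ha⟩ := exists_lift (cokernel.π (n • 𝟙 A)) q
    obtain ⟨X₂, π₂, _, z, t, hzt, ht⟩ := hN X₁ a 1
    refine ⟨X₂, π₂ ≫ π₁, inferInstance, tlift _ t ht, ?_⟩
    rw [pow_one] at hzt
    rw [tlift_tι_assoc, Functor.map_comp, Category.assoc, ← ha, reassoc_of% hzt, Preadditive.add_comp,
      Preadditive.nsmul_comp, hnπ, zero_add]
  refine small_of_epi (hA N) (hA (N + 1)) g (tlift _ (n • tι A _) ?_) ?_ fun X x hx => ?_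
  · rw [smul_smul, ← pow_succ, nsmul_tι]
  · rw [tlift_tι_assoc, Preadditive.nsmul_comp, hnπ]
  · obtain ⟨X', π, _, z, hz⟩ := exists_preimage (n • 𝟙 A) (x ≫ tι A _) (by rw [Category.assoc, hx])
    rw [Preadditive.comp_nsmul, Category.comp_id] at hz
    refine ⟨X', π, inferInstance, tlift _ z ?_, ?_⟩
    · rw [pow_succ, mul_smul, hz, ← Category.assoc, nsmul_eq_zero_of_factor]
    · rw [← cancel_mono (tι A _), Category.assoc, tlift_tι, Preadditive.comp_nsmul, tlift_tι, hz, Category.assoc]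

/-- The torsion of a cokernel is small. -/
theorem small_tors_cokernel {B : Ind C} (hB : ∀ k, Small (Tors B (n ^ k))) (f : A ⟶ B) :
    Small (Tors (cokernel f) n) := by
  obtain ⟨N, hN⟩ := exists_decomp hart htor hA
  obtain ⟨K, hK⟩ := exists_decomp hart htor (A := kernel f) (n := n) fun k => small_tors_kernel f (hA k) (hB k)
  let u : Tors B (n ^ (N + 1)) ⟶ Tors B (n ^ N) :=
    tlift _ (n • tι B _) (by rw [smul_smul, ← pow_succ, nsmul_tι])
  let v : Tors A (n ^ N) ⟶ Tors B (n ^ N) :=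
    tlift _ (tι A _ ≫ f) (by rw [← Preadditive.nsmul_comp, nsmul_tι, zero_comp])
  have hWsmall : Small (pullback u v) := small_pullback (hB _) (hA N) (hB N) u v
  let g : pullback u v ⟶ Tors (cokernel f) n :=
    tlift n (pullback.fst u v ≫ tι B _ ≫ cokernel.π f) (by
      have h := congrArg (fun q => q ≫ tι B (n ^ N) ≫ cokernel.π f) (pullback.condition (f := u) (g := v))
      simp only [u, v, Category.assoc, tlift_tι_assoc, cokernel.condition, comp_zero, Preadditive.nsmul_comp,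
        Preadditive.comp_nsmul] at h
      exact h)
  have : Epi g := epi_of_elements g fun X q => by
    obtain ⟨X₁, π₁, _, b, hb⟩ := exists_lift (cokernel.π f) (q ≫ tι _ n)
    obtain ⟨X₂, π₂, _, a, ha⟩ := exists_preimage f (n • b)
      (by rw [Preadditive.nsmul_comp, hb, ← Category.assoc, nsmul_eq_zero_of_factor])
    obtain ⟨X₃, π₃, _, z, t, hzt, ht⟩ := hN X₂ a 1
    rw [pow_one] at hzt
    let b' : y.obj X₃ ⟶ B := y.map π₃ ≫ y.map π₂ ≫ b - z ≫ f
    have hb' : n • b' = t ≫ f := by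
      simp only [b', smul_sub, ← Preadditive.comp_nsmul, ← ha]
      rw [reassoc_of% hzt, Preadditive.add_comp, Preadditive.comp_nsmul, Preadditive.nsmul_comp, add_sub_cancel_left]
    refine ⟨X₃, π₃ ≫ π₂ ≫ π₁, inferInstance,
      pullback.lift (tlift _ b' ?_) (tlift _ t ht) ?_, ?_⟩
    · rw [pow_succ, mul_smul, hb', ← Preadditive.nsmul_comp, ht, zero_comp]
    · rw [← cancel_mono (tι B (n ^ N)), Category.assoc, Category.assoc, tlift_tι, tlift_tι, Preadditive.comp_nsmul,
        tlift_tι, tlift_tι_assoc, hb']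
    · rw [← cancel_mono (tι (cokernel f) n)]
      simp only [g, Category.assoc, tlift_tι, pullback.lift_fst_assoc, tlift_tι_assoc, b', Preadditive.sub_comp,
        cokernel.condition, comp_zero, sub_zero, hb, Functor.map_comp]
  have hR : ∀ {W : Ind C} {k : ℕ} {x : W ⟶ B}, k ≤ N + 1 → n ^ k • x = 0 → n ^ (K + (N + 1)) • x = 0 :=
    fun h hx => pow_nsmul_zero_of_le (by omega) hx
  let w₁ : pullback u v ⟶ Tors B (n ^ (K + (N + 1))) :=
    tlift _ (pullback.fst u v ≫ tι B _) (hR le_rfl (nsmul_eq_zero_of_factor _))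
  let w₂ : Tors A (n ^ (K + (N + 1))) ⟶ Tors B (n ^ (K + (N + 1))) :=
    tlift _ (tι A _ ≫ f) (by rw [← Preadditive.nsmul_comp, nsmul_tι, zero_comp])
  refine small_of_epi hWsmall (small_pullback hWsmall (hA _) (hB _) w₁ w₂) g (pullback.fst w₁ w₂) ?_ fun X x hx => ?_
  · rw [← cancel_mono (tι (cokernel f) n), zero_comp]
    have h := congrArg (fun q => q ≫ tι B (n ^ (K + (N + 1))) ≫ cokernel.π f) (pullback.condition (f := w₁) (g := w₂))
    simp only [w₁, w₂, Category.assoc, tlift_tι_assoc, cokernel.condition, comp_zero] at h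
    simpa [g] using h
  · have hx' := congrArg (· ≫ tι (cokernel f) n) hx
    simp only [g, Category.assoc, tlift_tι, zero_comp] at hx'
    obtain ⟨X₁, π₁, _, a, ha⟩ := exists_preimage f (x ≫ pullback.fst u v ≫ tι B _) (by simpa using hx')
    obtain ⟨X₂, π₂, _, z, t, hzt, ht⟩ := hK X₁ (kernel.lift f (n ^ (N + 1) • a) (by
      rw [Preadditive.nsmul_comp, ha, ← Preadditive.comp_nsmul, ← Preadditive.comp_nsmul, ← Preadditive.comp_nsmul,
        nsmul_tι, comp_zero, comp_zero, comp_zero])) (N + 1)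
    have hzt' := congrArg (· ≫ kernel.ι f) hzt
    simp only [Category.assoc, kernel.lift_ι, Preadditive.add_comp, Preadditive.nsmul_comp,
      Preadditive.comp_nsmul] at hzt'
    let a' : y.obj X₂ ⟶ A := y.map π₂ ≫ a - z ≫ kernel.ι f
    have ha' : a' ≫ f = y.map π₂ ≫ y.map π₁ ≫ x ≫ pullback.fst u v ≫ tι B _ := by
      simp [a', ha]
    refine ⟨X₂, π₂ ≫ π₁, inferInstance, pullback.lift (y.map (π₂ ≫ π₁) ≫ x) (tlift _ a' ?_) ?_, ?_⟩
    · have e : n ^ (N + 1) • a' = t ≫ kernel.ι f := by simp [a', smul_sub, hzt']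
      rw [pow_add, mul_smul, e, ← Preadditive.nsmul_comp, ht, zero_comp]
    · rw [← cancel_mono (tι B (n ^ (K + (N + 1))))]
      simp only [w₁, w₂, Category.assoc, tlift_tι, tlift_tι_assoc, pullback.lift_fst, Functor.map_comp, ha']
    · rw [pullback.lift_fst]

end

/-- Images of a decreasing family of small objects in a small object stabilize. -/
theorem exists_image_stable (hart : ∀ X : C, IsArtinianObject X) {D : Ind C} (hD : Small D) (T : ℕ → Ind C)
    (hT : ∀ m, Small (T m)) (φ : ∀ m, T m ⟶ D) (hφ : ∀ m, ∃ r : T (m + 1) ⟶ T m, r ≫ φ m = φ (m + 1)) :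
    ∃ N : ℕ, ∀ m, N ≤ m → ∀ (X : C) (t : y.obj X ⟶ T N),
      ∃ (X' : C) (π : X' ⟶ X) (_ : Epi π) (z : y.obj X' ⟶ T m), z ≫ φ m = y.map π ≫ t ≫ φ N := by
  obtain ⟨X₁, ⟨a⟩⟩ := hD
  choose Y hY using hT
  let b : ∀ m, y.obj (Y m) ≅ T m := fun m => (hY m).some
  let ψ : ∀ m, Y m ⟶ X₁ := fun m => y.preimage ((b m).hom ≫ φ m ≫ a.inv)
  have hψ : ∀ m, y.map (ψ m) = (b m).hom ≫ φ m ≫ a.inv := fun m => y.map_preimage _
  have hchain : ∀ m, imageSubobject (ψ (m + 1)) ≤ imageSubobject (ψ m) := fun m => by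
    obtain ⟨r, hr⟩ := hφ m
    have e : ψ (m + 1) = y.preimage ((b (m + 1)).hom ≫ r ≫ (b m).inv) ≫ ψ m := y.map_injective (by
      rw [Functor.map_comp, hψ, hψ, Functor.map_preimage]
      simp [← hr])
    rw [e]
    exact imageSubobject_comp_le _ _
  have := hart X₁
  obtain ⟨N, hN⟩ := antitone_chain_condition_of_isArtinianObject (X := X₁)
    ⟨fun m => OrderDual.toDual (imageSubobject (ψ m)), monotone_nat_of_le_succ fun m => hchain m⟩
  refine ⟨N, fun m hm X t => ?_⟩
  have himg : imageSubobject (ψ N) = imageSubobject (ψ m) := hN m hm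
  let χ : X ⟶ Y N := y.preimage (t ≫ (b N).inv)
  let eN := factorThruImageSubobject (ψ N) ≫ (Subobject.isoOfEq _ _ himg).hom
  obtain ⟨X', π, hπ, χ', hχ'⟩ := surjective_up_to_refinements_of_epi (factorThruImageSubobject (ψ m)) (χ ≫ eN)
  refine ⟨X', π, hπ, y.map χ' ≫ (b m).hom, ?_⟩
  have h1 : χ' ≫ ψ m = π ≫ χ ≫ ψ N := by
    have := congrArg (· ≫ (imageSubobject (ψ m)).arrow) hχ'
    simpa [eN] using this.symm
  have h2 := congrArg (fun q => y.map q ≫ a.hom) h1
  simpa [χ, hψ] using h2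

/-- Multiplication by powers is epi on a divisible object. -/
lemma epi_pow_nsmul {D : Ind C} {n : ℕ} (h : Epi (n • 𝟙 D)) : ∀ k, Epi ((n ^ k) • 𝟙 D)
  | 0 => by rw [pow_zero, one_smul]; infer_instance
  | k + 1 => by
    have := epi_pow_nsmul h k
    rw [show (n ^ (k + 1)) • 𝟙 D = ((n ^ k) • 𝟙 D) ≫ (n • 𝟙 D) by
      rw [Preadditive.comp_nsmul, Category.comp_id, smul_smul, pow_succ']]
    exact epi_comp _ _

end Groth.Agent.IndCofLib
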