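import Groth.Agent.IndCofLib.Cofinite
import Mathlib.CategoryTheory.Abelian.GrothendieckAxioms.Indization
import Mathlib.Data.Nat.Prime.Basic
import Mathlib.Algebra.Order.BigOperators.GroupWithZero.Finset

/-!
# Divisible sub-objects of ind-objects of cofinite type
-/

set_option autoImplicit false

universe v

open CategoryTheory CategoryTheory.Limits

namespace Groth.Agent.IndCofLib

variable {C : Type v} [SmallCategory C] [Abelian C]

/-- Multiplication by `k` is epi on a supremum if every element of a member is a multiple of one of a member. -/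
theorem epi_nsmul_sSup {A : Ind C} (s : Set (Subobject A)) (k : ℕ)
    (H : ∀ D ∈ s, ∀ (X : C) (x : y.obj X ⟶ (D : Ind C)), ∃ (X' : C) (π : X' ⟶ X) (_ : Epi π) (E : Subobject A)
      (_ : E ∈ s) (z : y.obj X' ⟶ (E : Ind C)), k • (z ≫ E.arrow) = y.map π ≫ x ≫ D.arrow) :
    Epi (k • 𝟙 ((sSup s : Subobject A) : Ind C)) := by
  have hle : sSup s ≤ imageSubobject ((k • 𝟙 ((sSup s : Subobject A) : Ind C)) ≫ (sSup s).arrow) := sSup_le fun D hD =>
    le_of_elements _ _ fun X x => by
      obtain ⟨X', π, hπ, E, hE, z, hz⟩ := H D hD X x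
      refine ⟨X', π, hπ, z ≫ Subobject.ofLE _ _ (le_sSup hE) ≫ factorThruImageSubobject _, ?_⟩
      simpa [Preadditive.nsmul_comp, Preadditive.comp_nsmul] using hz
  refine epi_of_elements _ fun X x => ?_
  obtain ⟨X', π, hπ, z, hz⟩ :=
    exists_lift (factorThruImageSubobject ((k • 𝟙 ((sSup s : Subobject A) : Ind C)) ≫ (sSup s).arrow)) (x ≫ Subobject.ofLE _ _ hle)
  refine ⟨X', π, hπ, z, ?_⟩
  rw [← cancel_mono (sSup s).arrow]
  have h := congrArg (· ≫ (imageSubobject ((k • 𝟙 ((sSup s : Subobject A) : Ind C)) ≫ (sSup s).arrow)).arrow) hz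
  simpa only [Category.assoc, imageSubobject_arrow_comp, Subobject.ofLE_arrow] using h

/-- A sub-object on which `m` is epi lies in the multiples of `m`. -/
theorem le_image_nsmul {A : Ind C} (D : Subobject A) (m : ℕ) [Epi (m • 𝟙 (D : Ind C))] :
    D ≤ imageSubobject (m • 𝟙 A) := le_of_elements _ _ fun X x => by
  obtain ⟨X', π, hπ, z, hz⟩ := exists_lift (m • 𝟙 (D : Ind C)) x
  refine ⟨X', π, hπ, z ≫ D.arrow ≫ factorThruImageSubobject (m • 𝟙 A), ?_⟩
  rw [Category.assoc, Category.assoc, imageSubobject_arrow_comp, ← Category.assoc (y.map π), ← hz]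
  simp only [Preadditive.comp_nsmul, Preadditive.nsmul_comp, Category.comp_id, Category.assoc]

section

variable (hart : ∀ X : C, IsArtinianObject X) (htor : ∀ X : C, ∃ l : ℕ, 0 < l ∧ l • 𝟙 X = 0)
  {A : Ind C} {n : ℕ} (hA : ∀ k, Small (Tors A (n ^ k)))

include hart htor hA

/-- Multiples by a high power of `n` are `n`-divisible. -/
theorem exists_divisible_multiple : ∃ N : ℕ, ∀ (X : C) (a : y.obj X ⟶ A),
    ∃ (X' : C) (π : X' ⟶ X) (_ : Epi π) (z : y.obj X' ⟶ A), n ^ (N + 1) • z = n ^ N • (y.map π ≫ a) := by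
  obtain ⟨N, hN⟩ := exists_decomp hart htor hA
  refine ⟨N, fun X a => ?_⟩
  obtain ⟨X', π, hπ, z, t, hzt, ht⟩ := hN X a 1
  exact ⟨X', π, hπ, z, by rw [hzt, smul_add, ht, add_zero, smul_smul, pow_one, pow_succ]⟩

/-- Multiples by a high power of `n` form an `n`-divisible object of cofinite type. -/
theorem exists_divisible_image : ∃ N : ℕ, Epi (n • 𝟙 (imageSubobject ((n ^ N) • 𝟙 A) : Ind C)) ∧
    ∀ k, Small (Tors (imageSubobject ((n ^ N) • 𝟙 A) : Ind C) (n ^ k)) := by
  obtain ⟨N, hN⟩ := exists_divisible_multiple hart htor hA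
  refine ⟨N, epi_of_elements _ fun X x => ?_, fun k => ?_⟩
  · obtain ⟨X₁, π₁, _, a, ha⟩ := exists_lift (factorThruImageSubobject ((n ^ N) • 𝟙 A)) x
    obtain ⟨X₂, π₂, _, z, hz⟩ := hN X₁ a
    refine ⟨X₂, π₂ ≫ π₁, inferInstance, z ≫ factorThruImageSubobject ((n ^ N) • 𝟙 A), ?_⟩
    have ha' := congrArg (fun q => y.map π₂ ≫ q ≫ (imageSubobject ((n ^ N) • 𝟙 A)).arrow) ha
    simp only [Category.assoc, imageSubobject_arrow_comp, Preadditive.comp_nsmul, Category.comp_id] at ha'
    rw [Preadditive.comp_nsmul, Category.comp_id, ← cancel_mono (imageSubobject ((n ^ N) • 𝟙 A)).arrow]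
    simp only [Preadditive.nsmul_comp, Category.assoc, imageSubobject_arrow_comp, Preadditive.comp_nsmul,
      Category.comp_id, Functor.map_comp, smul_smul, ← pow_succ', hz, ha']
  · let e : cokernel (kernel.ι ((n ^ N) • 𝟙 A)) ≅ (imageSubobject ((n ^ N) • 𝟙 A) : Ind C) :=
      Abelian.coimageIsoImage' ((n ^ N) • 𝟙 A) ≪≫ (imageSubobjectIso _).symm
    refine small_of_iso (torsIso e (n ^ k)) (small_tors_cokernel hart htor
      (A := kernel ((n ^ N) • 𝟙 A)) (n := n ^ k) (fun j => ?_) (fun j => ?_) _)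
    · rw [← pow_mul]
      exact small_tors_kernel _ (hA _) (hA _)
    · rw [← pow_mul]
      exact hA _

end

/-- The largest divisible sub-object. -/
noncomputable def divPart (A : Ind C) : Subobject A :=
  sSup {D : Subobject A | ∀ k : ℕ, 0 < k → Epi (k • 𝟙 (D : Ind C))}

theorem le_divPart {A : Ind C} {D : Subobject A} (hD : ∀ k : ℕ, 0 < k → Epi (k • 𝟙 (D : Ind C))) : D ≤ divPart A :=
  le_sSup hD

theorem epi_nsmul_divPart (A : Ind C) (k : ℕ) (hk : 0 < k) : Epi (k • 𝟙 (divPart A : Ind C)) :=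
  epi_nsmul_sSup _ k fun D hD X x => by
    have := hD k hk
    obtain ⟨X', π, hπ, z, hz⟩ := exists_lift (k • 𝟙 (D : Ind C)) x
    refine ⟨X', π, hπ, D, hD, z, ?_⟩
    rw [← reassoc_of% hz]
    simp only [Preadditive.nsmul_comp, Preadditive.comp_nsmul, Category.id_comp]

section

variable (hart : ∀ X : C, IsArtinianObject X) (htor : ∀ X : C, ∃ l : ℕ, 0 < l ∧ l • 𝟙 X = 0)
  {A : Ind C} (hA : ∀ n : ℕ, 0 < n → Small (Tors A n))

include hart htor hA

/-- The largest divisible sub-object is of cofinite type. -/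
theorem small_tors_divPart {n : ℕ} (hn : 0 < n) : Small (Tors (divPart A : Ind C) n) := by
  obtain ⟨N, hepi, hsm⟩ := exists_divisible_image hart htor (n := n) fun k => hA _ (pow_pos hn k)
  let I := imageSubobject ((n ^ N) • 𝟙 A)
  let s : Set (Subobject A) := Set.range fun j => imageSubobject (tι (I : Ind C) (n ^ j) ≫ I.arrow)
  have hdiv : ∀ k : ℕ, 0 < k → Epi (k • 𝟙 ((sSup s : Subobject A) : Ind C)) := fun k hk => epi_nsmul_sSup s k (by
    rintro _ ⟨j, rfl⟩ X x
    obtain ⟨X₁, π₁, _, t, ht⟩ := exists_lift (factorThruImageSubobject (tι (I : Ind C) (n ^ j) ≫ I.arrow)) x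
    obtain ⟨k₁, k₂, rfl, h₁, h₂⟩ := exists_split n k hk
    obtain ⟨c, hc⟩ := h₁
    obtain ⟨a, b, hab⟩ : IsCoprime (k₂ : ℤ) ((n : ℤ) ^ (j + k₁ * k₂)) :=
      (Nat.isCoprime_iff_coprime.2 h₂).pow_right
    have := epi_pow_nsmul hepi (k₁ * k₂)
    obtain ⟨X₂, π₂, _, w, hw⟩ := exists_lift ((n ^ (k₁ * k₂)) • 𝟙 (I : Ind C)) (t ≫ tι _ _)
    rw [Preadditive.comp_nsmul, Category.comp_id] at hw
    have hw0 : n ^ (j + k₁ * k₂) • w = 0 := by
      rw [pow_add, mul_smul, hw, ← Preadditive.comp_nsmul, nsmul_eq_zero_of_factor, comp_zero]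
    have hcw : n ^ (j + k₁ * k₂) • (a • c • w) = 0 := by
      rw [smul_comm _ a, smul_comm _ c, hw0, smul_zero, smul_zero]
    refine ⟨X₂, π₂ ≫ π₁, inferInstance, imageSubobject (tι (I : Ind C) (n ^ (j + k₁ * k₂)) ≫ I.arrow), ⟨_, rfl⟩,
      tlift _ _ hcw ≫ factorThruImageSubobject _, ?_⟩
    have hk₂ : (k₂ : ℕ) • (a • c • w) = c • w := by
      conv_rhs => rw [← one_smul ℤ (c • w), ← hab]
      rw [add_smul, mul_comm a, mul_smul, mul_smul, natCast_zsmul, ← Nat.cast_pow, natCast_zsmul,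
        smul_comm (n ^ (j + k₁ * k₂)) c w, hw0, smul_zero, smul_zero, add_zero]
    have e : (k₁ * k₂) • (a • c • w) = y.map π₂ ≫ t ≫ tι _ _ := by rw [mul_smul, hk₂, smul_smul, ← hc, hw]
    rw [Category.assoc, imageSubobject_arrow_comp, tlift_tι_assoc, ← Preadditive.nsmul_comp, e, Functor.map_comp,
      Category.assoc, Category.assoc, Category.assoc, ← reassoc_of% ht, imageSubobject_arrow_comp])
  have hD : divPart A ≤ I := by
    have := epi_nsmul_divPart A (n ^ N) (pow_pos hn N)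
    exact le_image_nsmul _ _
  let g : Tors (divPart A : Ind C) n ⟶ Tors (I : Ind C) n :=
    tlift n (tι _ n ≫ Subobject.ofLE _ _ hD) (by rw [← Preadditive.nsmul_comp, nsmul_tι, zero_comp])
  have : Mono g := mono_of_mono_fac (tlift_tι _ _ _)
  have : Epi g := epi_of_elements g fun X x => by
    have hle : imageSubobject (tι (I : Ind C) (n ^ 1) ≫ I.arrow) ≤ divPart A :=
      le_trans (le_sSup (s := s) ⟨1, rfl⟩) (le_divPart hdiv)
    let a : y.obj X ⟶ (divPart A : Ind C) :=
      tlift (n ^ 1) (x ≫ tι _ n) (by rw [pow_one]; exact nsmul_eq_zero_of_factor x) ≫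
        factorThruImageSubobject _ ≫ Subobject.ofLE _ _ hle
    have ha : a ≫ Subobject.ofLE _ _ hD = x ≫ tι _ n := by
      rw [← cancel_mono I.arrow]
      simp only [a, Category.assoc, Subobject.ofLE_arrow, imageSubobject_arrow_comp, tlift_tι_assoc]
    refine ⟨X, 𝟙 X, inferInstance, tlift n a ?_, ?_⟩
    · rw [← cancel_mono (Subobject.ofLE _ _ hD), zero_comp, Preadditive.nsmul_comp, ha]
      exact nsmul_eq_zero_of_factor x
    · rw [← cancel_mono (tι (I : Ind C) n)]
      simp only [g, Category.assoc, tlift_tι, tlift_tι_assoc, ha, y.map_id, Category.id_comp]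
  have := isIso_of_mono_of_epi g
  have hI : Small (Tors (I : Ind C) n) := by simpa only [pow_one] using hsm 1
  exact small_of_iso (asIso g).symm hI

/-- If almost all primes act by epimorphisms, some multiples form a divisible sub-object with small quotient. -/
theorem exists_divisible_of_finite (hfin : {p : ℕ | p.Prime ∧ ¬ Epi (p • 𝟙 A)}.Finite) :
    ∃ B : Subobject A, (∀ k : ℕ, 0 < k → Epi (k • 𝟙 (B : Ind C))) ∧ Small (cokernel B.arrow) := by
  let n : ℕ := ∏ p ∈ hfin.toFinset, p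
  have hn : 0 < n := Finset.prod_pos fun p hp => (hfin.mem_toFinset.1 hp).1.pos
  obtain ⟨N, hepi, -⟩ := exists_divisible_image hart htor (n := n) fun k => hA _ (pow_pos hn k)
  let f := (n ^ N) • 𝟙 A
  let B := imageSubobject f
  have hprime : ∀ p : ℕ, p.Prime → Epi (p • 𝟙 (B : Ind C)) := fun p hp => by
    by_cases h : Epi (p • 𝟙 A)
    · have e : (p • 𝟙 A) ≫ factorThruImageSubobject f = factorThruImageSubobject f ≫ (p • 𝟙 (B : Ind C)) := by
        rw [Preadditive.nsmul_comp, Category.id_comp, Preadditive.comp_nsmul, Category.comp_id]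
      exact epi_of_epi_fac e.symm
    · obtain ⟨c, hc⟩ := Finset.dvd_prod_of_mem (fun q : ℕ => q) (hfin.mem_toFinset.2 ⟨hp, h⟩)
      have e : (c • 𝟙 (B : Ind C)) ≫ (p • 𝟙 (B : Ind C)) = n • 𝟙 (B : Ind C) := by
        rw [Preadditive.comp_nsmul, Category.comp_id, smul_smul]
        exact congrArg (· • 𝟙 (B : Ind C)) hc.symm
      have : Epi (n • 𝟙 (B : Ind C)) := hepi
      exact epi_of_epi_fac e
  refine ⟨B, fun k hk => ?_, ?_⟩
  · induction k using Nat.strong_induction_on with
    | _ k ih =>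
      by_cases h1 : k = 1
      · subst h1; rw [one_smul]; infer_instance
      obtain ⟨p, hp, c, rfl⟩ := Nat.exists_prime_and_dvd h1
      have hc : 0 < c := Nat.pos_of_ne_zero fun h => by simp [h] at hk
      have := ih c (lt_mul_of_one_lt_left hc hp.one_lt) hc
      have := hprime p hp
      rw [show (p * c) • 𝟙 (B : Ind C) = (c • 𝟙 (B : Ind C)) ≫ (p • 𝟙 (B : Ind C)) by
        rw [Preadditive.comp_nsmul, Category.comp_id, smul_smul]]
      exact epi_comp _ _
  · exact small_of_iso ((cokernelEpiComp (factorThruImageSubobject f) B.arrow).symm ≪≫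
      cokernelIsoOfEq (imageSubobject_arrow_comp f)).symm
        (small_cokernel_nsmul hart htor (n := n ^ N) fun k => by rw [← pow_mul]; exact hA _ (pow_pos hn _))

end

end Groth.Agent.IndCofLib
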