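import Mathlib.CategoryTheory.Abelian.Indization
import Mathlib.CategoryTheory.Abelian.Exact
import Mathlib.CategoryTheory.Limits.Types.Filtered

/-!
# Elements of ind-objects with values in objects of the small category
-/

set_option autoImplicit false

universe v

open CategoryTheory CategoryTheory.Limits Opposite

namespace Groth.Agent.IndCofLib

variable {C : Type v} [SmallCategory C] [Abelian C]

/-- The functor from the small category. -/
noncomputable abbrev y : C ⥤ Ind C := Ind.yoneda

instance : (y (C := C)).Additive :=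
  Functor.additive_of_preserves_binary_products _

instance epi_y {X' X : C} (π : X' ⟶ X) [Epi π] : Epi (y.map π) := inferInstance

/-- Morphisms out of a small object, as sections. -/
noncomputable def sec {X : C} {A : Ind C} (f : y.obj X ⟶ A) : ((Ind.inclusion C).obj A).obj (op X) :=
  ((Ind.inclusion C).map f).app (op X) (((Ind.yonedaCompInclusion.inv.app X).app (op X)) (𝟙 X))

omit [Abelian C] in
lemma sec_comp {X : C} {A B : Ind C} (f : y.obj X ⟶ A) (g : A ⟶ B) :
    sec (f ≫ g) = ((Ind.inclusion C).map g).app (op X) (sec f) := by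
  simp [sec]

omit [Abelian C] in
lemma sec_injective {X : C} {A : Ind C} : Function.Injective (sec : (y.obj X ⟶ A) → _) := fun f g h => by
  apply (Ind.inclusion C).map_injective
  rw [← cancel_epi (Ind.yonedaCompInclusion.inv.app X)]
  apply yonedaEquiv.injective
  exact h

/-- A morphism is zero if it kills every element. -/
theorem eq_zero_of_elements {A B : Ind C} (h : A ⟶ B) (H : ∀ (X : C) (x : y.obj X ⟶ A), x ≫ h = 0) : h = 0 := by
  rw [← cancel_epi A.colimitPresentationCompYoneda.hom]
  exact colimit.hom_ext fun j => by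
    rw [← Category.assoc, H (A.presentation.F.obj j), comp_zero, comp_zero]

/-- Elements lift along epimorphisms after a cover. -/
theorem exists_lift {A B : Ind C} (g : A ⟶ B) [Epi g] {X : C} (x : y.obj X ⟶ B) :
    ∃ (X' : C) (π : X' ⟶ X) (_ : Epi π) (a : y.obj X' ⟶ A), a ≫ g = y.map π ≫ x := by
  let P : Ind C := pullback g x
  let F := P.presentation.F
  let c := P.colimitPresentationCompYoneda
  let a : ∀ j, F.obj j ⟶ X := fun j =>
    y.preimage (colimit.ι (F ⋙ Ind.yoneda) j ≫ c.hom ≫ pullback.snd g x)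
  have ha : ∀ {i j} (u : i ⟶ j), F.map u ≫ a j = a i := fun {i j} u => y.map_injective (by
    rw [Functor.map_comp, Functor.map_preimage, Functor.map_preimage]
    exact colimit.w_assoc (F ⋙ Ind.yoneda) u _)
  let Q : P.presentation.I ⥤ C :=
    { obj := fun j => cokernel (a j)
      map := fun {i j} u => cokernel.map (a i) (a j) (F.map u) (𝟙 X) (by rw [Category.comp_id, ha])
      map_id := fun i => coequalizer.hom_ext (by simp)
      map_comp := fun u v => coequalizer.hom_ext (by simp) }
  have hπ : ∀ {i j} (u : i ⟶ j), cokernel.π (a i) ≫ Q.map u = cokernel.π (a j) := fun u => by simp [Q]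
  have hconst : ∀ i j, y.map (cokernel.π (a i)) ≫ colimit.ι (Q ⋙ Ind.yoneda) i =
      y.map (cokernel.π (a j)) ≫ colimit.ι (Q ⋙ Ind.yoneda) j := fun i j => by
    rw [← colimit.w (Q ⋙ Ind.yoneda) (IsFiltered.leftToMax i j), ← colimit.w (Q ⋙ Ind.yoneda) (IsFiltered.rightToMax i j)]
    simp only [Functor.comp_map, ← Category.assoc, ← Functor.map_comp, hπ]
  obtain ⟨i⟩ : Nonempty P.presentation.I := IsFiltered.nonempty
  let e : y.obj X ⟶ colimit (Q ⋙ Ind.yoneda) := y.map (cokernel.π (a i)) ≫ colimit.ι (Q ⋙ Ind.yoneda) i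
  have he : e = 0 := by
    rw [← cancel_epi (pullback.snd g x), ← cancel_epi c.hom, comp_zero, comp_zero]
    refine colimit.hom_ext fun j => ?_
    rw [show e = _ from hconst i j, comp_zero]
    have : y.map (a j) = colimit.ι (F ⋙ Ind.yoneda) j ≫ c.hom ≫ pullback.snd g x := Functor.map_preimage _ _
    rw [← Category.assoc c.hom, ← Category.assoc (colimit.ι _ j), ← this, ← Category.assoc, ← Functor.map_comp,
      cokernel.condition, Functor.map_zero, zero_comp]
  have hev : IsColimit (((Ind.inclusion C) ⋙ (evaluation Cᵒᵖ (Type v)).obj (op X)).mapCocone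
      (colimit.cocone (Q ⋙ Ind.yoneda))) := isColimitOfPreserves _ (colimit.isColimit _)
  have h0 : sec (y.map (cokernel.π (a i)) ≫ colimit.ι (Q ⋙ Ind.yoneda) i) =
      sec ((0 : y.obj X ⟶ y.obj (Q.obj i)) ≫ colimit.ι (Q ⋙ Ind.yoneda) i) := by rw [zero_comp]; exact congrArg sec he
  rw [sec_comp, sec_comp] at h0
  obtain ⟨k, u, v, huv⟩ := (Types.FilteredColimit.isColimit_eq_iff _ hev).1 h0
  have hk : y.map (cokernel.π (a k)) = 0 := by
    have h1 : sec (y.map (cokernel.π (a i)) ≫ y.map (Q.map u)) = sec ((0 : y.obj X ⟶ y.obj (Q.obj i)) ≫ y.map (Q.map v)) := by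
      rw [sec_comp, sec_comp]; exact huv
    have h2 := sec_injective h1
    rwa [zero_comp, ← Functor.map_comp, hπ] at h2
  have : Epi (a k) := Abelian.epi_of_cokernel_π_eq_zero _ (y.map_injective (hk.trans (y.map_zero _ _).symm))
  refine ⟨F.obj k, a k, this, colimit.ι (F ⋙ Ind.yoneda) k ≫ c.hom ≫ pullback.fst g x, ?_⟩
  rw [Functor.map_preimage]
  simp only [Category.assoc, pullback.condition]

/-- Elements lift through a morphism hitting every element. -/
theorem epi_of_elements {A B : Ind C} (g : A ⟶ B)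
    (H : ∀ (X : C) (x : y.obj X ⟶ B), ∃ (X' : C) (π : X' ⟶ X) (_ : Epi π) (a : y.obj X' ⟶ A), a ≫ g = y.map π ≫ x) :
    Epi g := by
  refine Preadditive.epi_of_cancel_zero g fun h hh => eq_zero_of_elements h fun X x => ?_
  obtain ⟨X', π, _, a, ha⟩ := H X x
  rw [← cancel_epi (y.map π), ← Category.assoc, ← ha, Category.assoc, hh, comp_zero, comp_zero]

end Groth.Agent.IndCofLib
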