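import Groth.Agent.IndCofLib.Elements
import Mathlib.CategoryTheory.Subobject.ArtinianObject
import Mathlib.CategoryTheory.Abelian.Refinements
import Mathlib.RingTheory.Coprime.Lemmas

/-!
# Torsion of ind-objects of cofinite type
-/

set_option autoImplicit false

universe v

open CategoryTheory CategoryTheory.Limits

namespace Groth.Agent.IndCofLib

variable {C : Type v} [SmallCategory C] [Abelian C]

/-- Objects coming from the small category. -/
abbrev Small (A : Ind C) : Prop := (Ind.yoneda (C := C)).essImage A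

lemma small_of_iso {A B : Ind C} (e : A ≅ B) (h : Small A) : Small B := h.ofIso e

lemma small_kernel {A B : Ind C} (hA : Small A) (hB : Small B) (g : A ⟶ B) : Small (kernel g) := by
  obtain ⟨X, ⟨a⟩⟩ := hA
  obtain ⟨Y, ⟨b⟩⟩ := hB
  refine ⟨kernel (y.preimage (a.hom ≫ g ≫ b.inv)), ⟨PreservesKernel.iso y _ ≪≫ kernel.mapIso _ _ a b ?_⟩⟩
  rw [Functor.map_preimage]
  simp

lemma small_cokernel {A B : Ind C} (hA : Small A) (hB : Small B) (g : A ⟶ B) : Small (cokernel g) := by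
  obtain ⟨X, ⟨a⟩⟩ := hA
  obtain ⟨Y, ⟨b⟩⟩ := hB
  refine ⟨cokernel (y.preimage (a.hom ≫ g ≫ b.inv)), ⟨PreservesCokernel.iso y _ ≪≫ cokernel.mapIso _ _ a b ?_⟩⟩
  rw [Functor.map_preimage]
  simp

lemma small_pullback {A B D : Ind C} (hA : Small A) (hB : Small B) (hD : Small D) (f : A ⟶ D) (g : B ⟶ D) :
    Small (pullback f g) := by
  obtain ⟨X, ⟨a⟩⟩ := hA
  obtain ⟨Y, ⟨b⟩⟩ := hB
  obtain ⟨Z, ⟨d⟩⟩ := hD
  let f' := y.preimage (a.hom ≫ f ≫ d.inv)
  let g' := y.preimage (b.hom ≫ g ≫ d.inv)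
  exact ⟨pullback f' g', ⟨PreservesPullback.iso y f' g' ≪≫
    asIso (pullback.map _ _ f g a.hom b.hom d.hom (by simp [f']) (by simp [g']))⟩⟩

/-- A quotient whose kernel is hit by a small object is small. -/
lemma small_of_epi {W Q U : Ind C} (hW : Small W) (hU : Small U) (g : W ⟶ Q) [Epi g] (k : U ⟶ W) (w : k ≫ g = 0)
    (H : ∀ (X : C) (x : y.obj X ⟶ W), x ≫ g = 0 →
      ∃ (X' : C) (π : X' ⟶ X) (_ : Epi π) (u : y.obj X' ⟶ U), u ≫ k = y.map π ≫ x) : Small Q := by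
  have : Epi (kernel.lift g k w) := epi_of_elements _ fun X x => by
    obtain ⟨X', π, hπ, u, hu⟩ := H X (x ≫ kernel.ι g) (by simp)
    exact ⟨X', π, hπ, u, by rw [← cancel_mono (kernel.ι g)]; simpa using hu⟩
  have hex : (ShortComplex.mk k g w).Exact := (ShortComplex.exact_iff_epi_kernel_lift _).2 this
  have : Epi (ShortComplex.mk k g w).g := ‹Epi g›
  exact small_of_iso ((cokernelIsCokernel k).coconePointUniqueUpToIso hex.gIsCokernel) (small_cokernel hU hW k)

/-- The torsion. -/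
noncomputable abbrev Tors (A : Ind C) (n : ℕ) : Ind C := kernel (n • 𝟙 A)

/-- The inclusion of the torsion. -/
noncomputable abbrev tι (A : Ind C) (n : ℕ) : Tors A n ⟶ A := kernel.ι (n • 𝟙 A)

lemma nsmul_tι (A : Ind C) (n : ℕ) : n • tι A n = 0 := by
  rw [← Category.comp_id (tι A n), ← Preadditive.comp_nsmul]
  exact kernel.condition _

/-- The map into the torsion. -/
noncomputable def tlift {W A : Ind C} (n : ℕ) (x : W ⟶ A) (h : n • x = 0) : W ⟶ Tors A n :=
  kernel.lift _ x (by rw [Preadditive.comp_nsmul, Category.comp_id, h])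

@[simp, reassoc]
lemma tlift_tι {W A : Ind C} (n : ℕ) (x : W ⟶ A) (h : n • x = 0) : tlift n x h ≫ tι A n = x := kernel.lift_ι _ _ _

lemma nsmul_eq_zero_of_factor {W A : Ind C} {n : ℕ} (t : W ⟶ Tors A n) : n • (t ≫ tι A n) = 0 := by
  rw [← Preadditive.comp_nsmul, nsmul_tι, comp_zero]

lemma nsmul_eq_zero_of_dvd {W A : Ind C} {a b : ℕ} (hab : a ∣ b) {x : W ⟶ A} (h : a • x = 0) : b • x = 0 := by
  obtain ⟨c, rfl⟩ := hab
  rw [mul_comm, mul_smul, h, smul_zero]

lemma pow_nsmul_zero_of_le {W A : Ind C} {n a b : ℕ} (hab : a ≤ b) {x : W ⟶ A} (h : n ^ a • x = 0) : n ^ b • x = 0 :=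
  nsmul_eq_zero_of_dvd (pow_dvd_pow n hab) h

section Stable

variable (hart : ∀ X : C, IsArtinianObject X) {A : Ind C} (n : ℕ) (hn : Small (Tors A n))
  (S : ℕ → Ind C) (i : ∀ m, S m ⟶ A) [∀ m, Mono (i m)]
  (hS : ∀ a b, a ≤ b → ∃ r : S b ⟶ S a, r ≫ i a = i b) (hsm : ∀ m k, Small (Tors (S m) (n ^ k)))

include hart hn hS hsm

/-- Multiples in a decreasing family of objects of cofinite type stabilize on torsion elements. -/
theorem exists_stable :
    ∃ N : ℕ, ∀ (k : ℕ) (X : C) (x : y.obj X ⟶ S N), n ^ k • x = 0 → ∀ m j, N ≤ m →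
      ∃ (X' : C) (π : X' ⟶ X) (_ : Epi π) (z : y.obj X' ⟶ S m),
        n ^ j • (z ≫ i m) = n ^ N • (y.map π ≫ x ≫ i N) ∧ n ^ (k + j) • z = 0 := by
  obtain ⟨X₁, ⟨a⟩⟩ := hn
  choose Y hY using fun m => hsm m (m + 1)
  let b : ∀ m, y.obj (Y m) ≅ Tors (S m) (n ^ (m + 1)) := fun m => (hY m).some
  let φ : ∀ m, Tors (S m) (n ^ (m + 1)) ⟶ Tors A n := fun m =>
    tlift n (n ^ m • (tι (S m) _ ≫ i m)) (by
      rw [smul_smul, ← pow_succ', ← Preadditive.nsmul_comp, nsmul_tι, zero_comp])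
  let ψ : ∀ m, Y m ⟶ X₁ := fun m => y.preimage ((b m).hom ≫ φ m ≫ a.inv)
  have hψ : ∀ m, y.map (ψ m) = (b m).hom ≫ φ m ≫ a.inv := fun m => y.map_preimage _
  have hchain : ∀ m, imageSubobject (ψ (m + 1)) ≤ imageSubobject (ψ m) := fun m => by
    obtain ⟨r, hr⟩ := hS m (m + 1) (Nat.le_succ m)
    let r' : Tors (S (m + 1)) (n ^ (m + 1 + 1)) ⟶ Tors (S m) (n ^ (m + 1)) :=
      tlift _ (n • (tι (S (m + 1)) _ ≫ r)) (by
        rw [smul_smul, ← pow_succ, ← Preadditive.nsmul_comp, nsmul_tι, zero_comp])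
    have e : ψ (m + 1) = y.preimage ((b (m + 1)).hom ≫ r' ≫ (b m).inv) ≫ ψ m := y.map_injective (by
      rw [Functor.map_comp, hψ, hψ, Functor.map_preimage]
      simp only [Category.assoc, Iso.inv_hom_id_assoc]
      congr 1
      rw [← Category.assoc]
      congr 1
      rw [← cancel_mono (tι A n)]
      simp only [φ, r', Category.assoc, tlift_tι, Preadditive.comp_nsmul, tlift_tι_assoc, Preadditive.nsmul_comp, hr,
        smul_smul, pow_succ])
    rw [e]
    exact imageSubobject_comp_le _ _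
  have := hart X₁
  obtain ⟨N, hN⟩ := antitone_chain_condition_of_isArtinianObject (X := X₁)
    ⟨fun m => OrderDual.toDual (imageSubobject (ψ m)), monotone_nat_of_le_succ fun m => hchain m⟩
  have base : ∀ (M : ℕ), N ≤ M → ∀ (X : C) (t : y.obj X ⟶ Tors (S N) (n ^ (N + 1))),
      ∃ (X' : C) (π : X' ⟶ X) (_ : Epi π) (z : y.obj X' ⟶ S M), n ^ (M + 1) • z = 0 ∧
        n ^ M • (z ≫ i M) = n ^ N • (y.map π ≫ t ≫ tι _ _ ≫ i N) := by
    intro M hM X t
    let χ : X ⟶ Y N := y.preimage (t ≫ (b N).inv)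
    have himg : imageSubobject (ψ N) = imageSubobject (ψ M) := hN M hM
    let eN := factorThruImageSubobject (ψ N) ≫ (Subobject.isoOfEq _ _ himg).hom
    obtain ⟨X', π, hπ, χ', hχ'⟩ := surjective_up_to_refinements_of_epi (factorThruImageSubobject (ψ M)) (χ ≫ eN)
    refine ⟨X', π, hπ, y.map χ' ≫ (b M).hom ≫ tι _ _, ?_, ?_⟩
    · rw [← Category.assoc]; exact nsmul_eq_zero_of_factor _
    · have h1 : χ' ≫ ψ M = π ≫ χ ≫ ψ N := by
        have := congrArg (· ≫ (imageSubobject (ψ M)).arrow) hχ'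
        simpa [eN] using this.symm
      have h2 := congrArg (fun q => y.map q ≫ a.hom ≫ tι A n) h1
      simp only [Functor.map_comp, hψ, χ, Functor.map_preimage, Category.assoc, Iso.inv_hom_id_assoc, φ, tlift_tι,
        Preadditive.comp_nsmul, Preadditive.nsmul_comp] at h2
      simpa only [Category.assoc, Preadditive.comp_nsmul] using h2
  have claim : ∀ (k M : ℕ), N ≤ M → ∀ (X : C) (x : y.obj X ⟶ S N), n ^ k • (n ^ M • x) = 0 → ∀ m j, N ≤ m →
      ∃ (X' : C) (π : X' ⟶ X) (_ : Epi π) (z : y.obj X' ⟶ S m),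
        n ^ j • (z ≫ i m) = n ^ M • (y.map π ≫ x ≫ i N) ∧ n ^ (k + j) • z = 0 := by
    intro k
    induction k with
    | zero =>
      intro M _ X x hx m j _
      refine ⟨X, 𝟙 X, inferInstance, 0, ?_, smul_zero _⟩
      rw [zero_comp, smul_zero, y.map_id, Category.id_comp, ← Preadditive.nsmul_comp]
      rw [pow_zero, one_smul] at hx
      rw [hx, zero_comp]
    | succ k ih =>
      intro M hM X x hx m j hm
      obtain ⟨X₂, π₂, _, z₁, hz₁, hz₁'⟩ := ih (M + 1) (by omega) X x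
        (by rw [← hx, ← mul_smul, ← mul_smul, ← pow_add, ← pow_add, show k + (M + 1) = k + 1 + M by omega]) m (max j M + 1) hm
      obtain ⟨r, hr⟩ := hS N m hm
      let u : y.obj X₂ ⟶ S N := y.map π₂ ≫ x - n ^ (max j M - M) • (z₁ ≫ r)
      have hu : n ^ (M + 1) • u = 0 := by
        rw [← cancel_mono (i N), zero_comp]
        simp only [u, Preadditive.nsmul_comp, Preadditive.sub_comp, Category.assoc, hr, smul_sub, smul_smul, ← pow_add]
        rw [show M + 1 + (max j M - M) = max j M + 1 by omega, hz₁, sub_self]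
      obtain ⟨X₃, π₃, _, z₂, hz₂', hz₂⟩ := base (max N (max j m)) (le_max_left _ _) X₂
        (tlift _ (n ^ (M - N) • u) (by rw [← mul_smul, ← pow_add, show N + 1 + (M - N) = M + 1 by omega, hu]))
      obtain ⟨r₂, hr₂⟩ := hS m (max N (max j m)) (by omega)
      refine ⟨X₃, π₃ ≫ π₂, inferInstance,
        n ^ (max j M - j) • (y.map π₃ ≫ z₁) + n ^ (max N (max j m) - j) • (z₂ ≫ r₂), ?_, ?_⟩
      · simp only [Preadditive.add_comp, Preadditive.nsmul_comp, smul_add, smul_smul, ← pow_add, Category.assoc, hr₂]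
        rw [show j + (max j M - j) = max j M by omega, show j + (max N (max j m) - j) = max N (max j m) by omega, hz₂,
          tlift_tι_assoc, Preadditive.nsmul_comp, Preadditive.comp_nsmul, smul_smul, ← pow_add,
          show N + (M - N) = M by omega]
        simp only [u, Preadditive.sub_comp, Preadditive.nsmul_comp, Category.assoc, hr, Preadditive.comp_sub,
          Preadditive.comp_nsmul, smul_sub, smul_smul, ← pow_add, Functor.map_comp]
        rw [show M + (max j M - M) = max j M by omega]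
        abel
      · rw [smul_add, smul_smul, smul_smul, ← pow_add, ← pow_add, ← Preadditive.comp_nsmul,
          pow_nsmul_zero_of_le (a := k + (max j M + 1)) (by omega) hz₁', comp_zero, zero_add,
          ← Preadditive.nsmul_comp, pow_nsmul_zero_of_le (a := max N (max j m) + 1) (by omega) hz₂', zero_comp]
  refine ⟨N, fun k X x hx m j hm => claim k N le_rfl X x ?_ m j hm⟩
  rw [smul_comm, hx, smul_zero]

end Stable

/-- Multiples stabilize on torsion elements. -/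
theorem exists_stable_self (hart : ∀ X : C, IsArtinianObject X) {A : Ind C} (n : ℕ)
    (hA : ∀ k, Small (Tors A (n ^ k))) :
    ∃ N : ℕ, ∀ (k : ℕ) (X : C) (x : y.obj X ⟶ A), n ^ k • x = 0 → ∀ j,
      ∃ (X' : C) (π : X' ⟶ X) (_ : Epi π) (z : y.obj X' ⟶ A),
        n ^ j • z = n ^ N • (y.map π ≫ x) ∧ n ^ (k + j) • z = 0 := by
  obtain ⟨N, hN⟩ := exists_stable hart n (by simpa using hA 1) (fun _ => A) (fun _ => 𝟙 A)
    (fun _ _ _ => ⟨𝟙 A, Category.comp_id _⟩) (fun _ => hA)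
  exact ⟨N, fun k X x hx j => by simpa using hN k X x hx N j le_rfl⟩

lemma exists_split (n : ℕ) : ∀ l : ℕ, 0 < l → ∃ l₁ l₂ : ℕ, l = l₁ * l₂ ∧ l₁ ∣ n ^ l ∧ Nat.Coprime l₂ n := by
  intro l
  induction l using Nat.strong_induction_on with
  | _ l ih =>
    intro hl
    by_cases hc : Nat.Coprime l n
    · exact ⟨1, l, (one_mul l).symm, one_dvd _, hc⟩
    let q := Nat.gcd l n
    have hq : 1 < q := by
      have h0 : 0 < q := Nat.gcd_pos_of_pos_left _ hl
      have h1 : q ≠ 1 := hc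
      omega
    obtain ⟨c, hc'⟩ := Nat.gcd_dvd_left l n
    have hcpos : 0 < c := Nat.pos_of_ne_zero fun h => by rw [h, mul_zero] at hc'; omega
    have hlt : c < l := hc' ▸ lt_mul_of_one_lt_left hcpos hq
    obtain ⟨l₁, l₂, h, h₁, h₂⟩ := ih c hlt hcpos
    refine ⟨q * l₁, l₂, by rw [mul_assoc, ← h]; exact hc', ?_, h₂⟩
    calc q * l₁ ∣ n * n ^ c := Nat.mul_dvd_mul (Nat.gcd_dvd_right l n) h₁
      _ = n ^ (c + 1) := (pow_succ' n c).symm
      _ ∣ n ^ l := pow_dvd_pow n hlt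

section Decompose

variable (hart : ∀ X : C, IsArtinianObject X) (htor : ∀ X : C, ∃ l : ℕ, 0 < l ∧ l • 𝟙 X = 0)
  {A : Ind C} {n : ℕ} (hA : ∀ k, Small (Tors A (n ^ k)))

include htor in
/-- Elements are killed by a positive integer. -/
lemma exists_nsmul_eq_zero {X : C} (x : y.obj X ⟶ A) : ∃ l : ℕ, 0 < l ∧ l • x = 0 := by
  obtain ⟨l, hl, h⟩ := htor X
  refine ⟨l, hl, ?_⟩
  rw [← Category.id_comp x, ← y.map_id X, ← Preadditive.nsmul_comp, ← y.map_nsmul, h, y.map_zero, zero_comp]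

include hart htor hA

/-- Every element is a multiple plus a bounded torsion element. -/
theorem exists_decomp : ∃ N : ℕ, ∀ (X : C) (x : y.obj X ⟶ A) (j : ℕ),
    ∃ (X' : C) (π : X' ⟶ X) (_ : Epi π) (z t : y.obj X' ⟶ A), y.map π ≫ x = n ^ j • z + t ∧ n ^ N • t = 0 := by
  obtain ⟨N, hN⟩ := exists_stable_self hart n hA
  refine ⟨N, fun X x j => ?_⟩
  obtain ⟨l, hl, hlx⟩ := exists_nsmul_eq_zero htor x
  obtain ⟨l₁, l₂, rfl, h₁, h₂⟩ := exists_split n l hl
  obtain ⟨a, b, hab⟩ : IsCoprime (l₂ : ℤ) ((n : ℤ) ^ j) :=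
    (Nat.isCoprime_iff_coprime.2 h₂).pow_right
  let x₁ : y.obj X ⟶ A := a • l₂ • x
  have hx₁ : n ^ (l₁ * l₂) • x₁ = 0 := by
    obtain ⟨c, hc⟩ := h₁
    rw [smul_comm, hc, ← mul_smul, mul_right_comm, mul_comm, mul_smul, hlx, smul_zero, smul_zero]
  have hx : x = x₁ + n ^ j • (b • x) := by
    simp only [x₁, ← natCast_zsmul, smul_smul, ← add_smul, Nat.cast_pow]
    rw [mul_comm ((n : ℤ) ^ j) b, hab, one_smul]
  obtain ⟨X', π, hπ, z, hz, -⟩ := hN _ X x₁ hx₁ (N + j)
  refine ⟨X', π, hπ, z + y.map π ≫ (b • x), y.map π ≫ x₁ - n ^ j • z, ?_, ?_⟩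
  · conv_lhs => rw [hx]
    rw [Preadditive.comp_add, Preadditive.comp_nsmul, smul_add]
    abel
  · rw [smul_sub, smul_smul, ← pow_add, hz, sub_self]

end Decompose

end Groth.Agent.IndCofLib
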